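import Mathlib

set_option autoImplicit false
universe u v
open Polynomial

namespace Groth.Agent.KrasnerLib

/-- A root of `π w + y + y² h(y)` in a ring complete for `(π)`. -/
theorem exists_contraction {B : Type u} [CommRing B] (π : B)
    [IsAdicComplete (Ideal.span {π}) B] (w : B) (h : B[X]) :
    ∃ y ∈ Ideal.span {π}, π * w + y + y ^ 2 * h.eval y = 0 := by
  set I := Ideal.span {π} with hI
  let T : B → B := fun y => -(π * w) - y ^ 2 * h.eval y
  let s : ℕ → B := fun n => T^[n] 0
  have hs : ∀ n, s (n + 1) = T (s n) := fun n => Function.iterate_succ_apply' T n 0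
  have hπ : π ∈ I := Ideal.subset_span rfl
  have hmem : ∀ n, s n ∈ I := by
    intro n
    induction n with
    | zero => exact I.zero_mem
    | succ n ih =>
      rw [hs]
      exact I.sub_mem (I.neg_mem (I.mul_mem_right _ hπ))
        (by rw [pow_two, mul_assoc]; exact I.mul_mem_right _ ih)
  have key : ∀ a ∈ I, ∀ b ∈ I, ∀ n, a - b ∈ I ^ n → T a - T b ∈ I ^ (n + 1) := by
    intro a ha b hb n hab
    obtain ⟨r, hr⟩ := Polynomial.sub_dvd_eval_sub a b h
    have e : T a - T b = (a - b) * (-((a + b) * h.eval a + b * (b * r))) := by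
      simp only [T]
      linear_combination (-(b ^ 2)) * hr
    rw [e, pow_succ]
    exact Ideal.mul_mem_mul hab (I.neg_mem (I.add_mem (I.mul_mem_right _ (I.add_mem ha hb))
      (I.mul_mem_right _ hb)))
  have hstep : ∀ n, s (n + 1) - s n ∈ I ^ n := by
    intro n
    induction n with
    | zero => simp
    | succ n ih =>
      rw [hs (n + 1), hs n]
      have := key _ (hmem (n + 1)) _ (hmem n) n ih
      rwa [hs n] at this
  have hcauchy : ∀ {m n}, m ≤ n → s m ≡ s n [SMOD (I ^ m • ⊤ : Submodule B B)] := by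
    intro m n hmn
    rw [SModEq.sub_mem, smul_eq_mul, Ideal.mul_top]
    induction n, hmn using Nat.le_induction with
    | base => simp
    | succ n hmn ih =>
      have h1 := Ideal.pow_le_pow_right hmn (hstep n)
      have : s m - s (n + 1) = (s m - s n) - (s (n + 1) - s n) := by ring
      rw [this]
      exact Ideal.sub_mem _ ih h1
  obtain ⟨L, hL⟩ := IsPrecomplete.prec (inferInstance : IsPrecomplete I B) hcauchy
  have hL' : ∀ n, s n - L ∈ I ^ n := fun n => by
    have := hL n
    rwa [SModEq.sub_mem, smul_eq_mul, Ideal.mul_top] at this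
  have hLI : L ∈ I := by
    have h1 := hL' 1
    rw [pow_one] at h1
    simpa using I.sub_mem (hmem 1) h1
  refine ⟨L, hLI, IsHausdorff.haus (inferInstance : IsHausdorff I B) _ fun n => ?_⟩
  rw [SModEq.zero, smul_eq_mul, Ideal.mul_top]
  have h1 := key _ hLI _ (hmem n) n (by simpa using Ideal.neg_mem_iff _ |>.2 (hL' n))
  have h2 : π * w + L + L ^ 2 * h.eval L = -(T L - T (s n)) - (s (n + 1) - L) := by
    rw [hs n]; simp only [T]; ring
  rw [h2]
  exact Ideal.sub_mem _ ((Ideal.neg_mem_iff _).2 (Ideal.pow_le_pow_right n.le_succ h1))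
    (Ideal.pow_le_pow_right n.le_succ (hL' (n + 1)))

/-- Newton's lemma: `g(α) ∈ g'(α)² (π)` gives a root congruent to `α` modulo `π`. -/
theorem exists_root_of_newton {B : Type u} [CommRing B] (π : B)
    [IsAdicComplete (Ideal.span {π}) B] (g : B[X]) (α w : B)
    (hw : g.eval α = g.derivative.eval α ^ 2 * (π * w)) :
    ∃ β : B, g.eval β = 0 ∧ β - α ∈ Ideal.span {π} := by
  set b := g.derivative.eval α with hb
  set h := (taylor α g).divX.divX
  obtain ⟨y, hy, hy0⟩ := exists_contraction π w (h.comp (C b * X))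
  refine ⟨α + b * y, ?_, by simpa using Ideal.mul_mem_left _ b hy⟩
  have e1 := X_mul_divX_add (taylor α g)
  have e2 := X_mul_divX_add (taylor α g).divX
  have c1 : (taylor α g).divX.coeff 0 = b := by rw [coeff_divX, taylor_coeff_one]
  have hexp : g.eval (α + b * y) = g.eval α + b * (b * y) + (b * y) ^ 2 * h.eval (b * y) := by
    rw [add_comm α, ← taylor_eval]
    conv_lhs => rw [← e1, ← e2, c1, taylor_coeff_zero]
    simp only [eval_add, eval_mul, eval_X, eval_C, h]
    ring
  rw [hexp, hw]
  simp only [eval_comp, eval_mul, eval_C, eval_X] at hy0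
  linear_combination b ^ 2 * hy0

end Groth.Agent.KrasnerLib
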